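import Cfsg.Agent.H95.Cj
import Cfsg.Agent.H46.PAction
import Cfsg.Agent.H24.PermModule
import Cfsg.Agent.H33.Kernel
import Cfsg.Agent.H88.PLocal
import Cfsg.Agent.H5.Burnside
import Cfsg.Agent.H82.ClassSize
import Cfsg.Agent.H2.MinNormal
import Cfsg.Agent.S0907

/-! Kazarin's theorem: an element with class of prime power size lies in the solvable radical. -/

set_option autoImplicit false

namespace Cfsg.Agent.H95

open Cfsg
open scoped ComplexConjugate

universe u

theorem kazarin_char {G : Type*} [Group G] [Finite G] {p q k : ℕ} (hp : p.Prime) (hq : q.Prime)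
    (hpq : p ≠ q) (M : Subgroup G) [M.Normal] (hidx : M.index = q)
    (hmin : ∀ N : Subgroup G, N.Normal → N ≠ ⊥ → M ≤ N) {y : G} (hy : y ∉ Subgroup.center G)
    (hk : (Subgroup.centralizer ({y} : Set G)).index = p ^ k) {u : G} (hu : u ∈ M)
    (huq : orderOf u = q) : False := by
  classical
  have := Fintype.ofFinite G
  have : Fact q.Prime := ⟨hq⟩
  obtain ⟨I, hI⟩ := H88.exists_isPModular hq
  have := hI.2.1
  have h0 := S0907.result q I hI _ H33.isPBlock_principalBlock (1 : G) u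
    (by rw [orderOf_one]; exact hq.one_lt.ne' ∘ Nat.dvd_one.1) (huq ▸ dvd_rfl)
  rw [finsum_mem_eq_finite_toFinset_sum _ (Set.toFinite _), ← Finset.sum_filter_add_sum_filter_not _
    (fun χ : IrrCharacter G => ∀ n ∈ M, (χ : G → ℂ) n = (χ : G → ℂ) 1)] at h0
  have hin : ∀ χ : IrrCharacter G, (∀ n ∈ M, (χ : G → ℂ) n = (χ : G → ℂ) 1) →
      χ ∈ principalBlock I G := by
    intro χ hχ g
    obtain ⟨φ, hφ, h1⟩ := H5.exists_isIrr_quotient M χ.2 hχ
    have hcard : Nat.card (G ⧸ M) = q := hidx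
    have hc : IsCyclic (G ⧸ M) := isCyclic_of_prime_card hcard
    obtain ⟨lam, rfl⟩ := H5.exists_monoidHom_of_comm (fun a b => IsCyclic.commGroup.mul_comm a b) hφ
    have h2 : (lam (g : G ⧸ M) : ℂ) ^ q ^ 1 = 1 := by
      rw [pow_one, ← Units.val_pow_eq_pow_val, ← map_pow, ← hcard, pow_card_eq_one', map_one,
        Units.val_one]
    have h3 := H32.mul_mem_locMax_left (M := I)
      (natCast_mem _ (Subgroup.centralizer ({g} : Set G)).index)
      (neg_mem (H32.sub_one_mem_locMax_of_pow_p_pow hI h2))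
    rw [← H32.mem_locMax]
    convert h3 using 1
    rw [h1]
    simp [centralChar]
    ring
  have h1 : ∑ χ ∈ (Set.toFinite (principalBlock I G)).toFinset.filter
      (fun χ : IrrCharacter G => ∀ n ∈ M, (χ : G → ℂ) n = (χ : G → ℂ) 1),
      (χ : G → ℂ) 1 * conj ((χ : G → ℂ) u) = q := by
    rw [← hidx, ← H33.sum_degree_sq_of_le_ker M]
    refine Finset.sum_congr ?_ fun χ hχ => ?_
    · ext χ
      simp only [Finset.mem_filter, Set.Finite.mem_toFinset, Finset.mem_univ, true_and,
        and_iff_right_iff_imp]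
      exact hin χ
    · obtain ⟨n, -, hn⟩ := H5.exists_pos_nat_degree χ.2
      rw [(Finset.mem_filter.1 hχ).2 u hu, hn, pow_two, map_natCast]
  have hp0 : (p : ℂ) ≠ 0 := by exact_mod_cast hp.ne_zero
  have h2 : IsIntegral ℤ ((∑ χ ∈ (Set.toFinite (principalBlock I G)).toFinset.filter
      (fun χ : IrrCharacter G => ¬ ∀ n ∈ M, (χ : G → ℂ) n = (χ : G → ℂ) 1),
      (χ : G → ℂ) 1 * conj ((χ : G → ℂ) u)) / p) := by
    rw [Finset.sum_div]
    refine IsIntegral.sum _ fun χ hχ => ?_
    rw [Finset.mem_filter, Set.Finite.mem_toFinset] at hχ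
    have hc := H5.isCharacter_of_isIrr χ.2
    obtain ⟨n, hn0, hn⟩ := H5.exists_pos_nat_degree χ.2
    have hker : H5.charKer hc = ⊥ := by
      by_contra h
      exact hχ.2 fun n hn => hmin _ inferInstance h hn
    have hdvd : p ∣ n := by
      by_contra hpn
      rcases H5.eq_zero_or_norm_eq_of_coprime χ.2 y hn (by
        rw [hk]; exact ((Nat.Prime.coprime_iff_not_dvd hp).2 hpn).symm.pow_right k) with h | h
      · have h3 := hχ.1 y
        rw [← H32.mem_locMax] at h3
        simp only [centralChar, h, hk, mul_zero, zero_div, sub_zero, mul_one, div_one] at h3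
        rw [H32.natCast_mem_locMax_iff hI] at h3
        exact hpq ((Nat.prime_dvd_prime_iff_eq hq hp).1 (hq.dvd_of_dvd_pow h3)).symm
      · apply hy
        rw [Subgroup.mem_center_iff]
        intro g
        have h3 : y * g * y⁻¹ * g⁻¹ ∈ H5.charKer hc := H5.apply_commutator_of_norm_eq hc h g
        rw [hker, Subgroup.mem_bot, mul_inv_eq_one, mul_inv_eq_iff_eq_mul] at h3
        exact h3.symm
    obtain ⟨m, rfl⟩ := hdvd
    rw [hn, ← H5.isCharacter_apply_inv hc, Nat.cast_mul, mul_assoc, mul_div_cancel_left₀ _ hp0]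
    exact (isIntegral_natCast m).mul (H5.isIntegral_apply hc _)
  rw [h1, add_eq_zero_iff_neg_eq] at h0
  rw [← h0, neg_div] at h2
  have h3 := H5.dvd_of_isIntegral_div hp.ne_zero (by simpa using h2.neg)
  exact hpq ((Nat.prime_dvd_prime_iff_eq hp hq).1 h3)

theorem exists_cj_sylow {G : Type*} [Group G] [Finite G] {p k : ℕ} [Fact p.Prime] (N : Subgroup G)
    (S : Sylow p N) (y : G) (h : (Subgroup.centralizer {y}).relIndex N = p ^ k) {n : G}
    (hn : n ∈ N) : ∃ s ∈ (S : Subgroup N).map N.subtype, cj s y = cj n y := by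
  set C : Subgroup N := (Subgroup.centralizer {y}).subgroupOf N with hC
  have htr := H24.sylow_isPretransitive (Ω := N ⧸ C) h S
  obtain ⟨x, hx⟩ := htr.exists_smul_eq ((1 : N) : N ⧸ C) ((⟨_, hn⟩ : N) : N ⧸ C)
  refine ⟨(x : N), ⟨x, x.2, rfl⟩, ?_⟩
  have h2 : ((x : N) * 1)⁻¹ * ⟨_, hn⟩ ∈ C := QuotientGroup.eq.1 hx
  rw [hC, Subgroup.mem_subgroupOf, Subgroup.mem_centralizer_singleton_iff] at h2
  have h3 := cj_of_commute h2
  rw [mul_one, Subgroup.coe_mul, cj_mul, Subgroup.coe_inv, cj_eq_iff, inv_inv] at h3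
  exact h3.symm

theorem exists_eq_pow_of_dvd {p k n : ℕ} (hp : p.Prime) (h : n ∣ p ^ k) : ∃ j, n = p ^ j := by
  obtain ⟨j, -, hj⟩ := (Nat.dvd_prime_pow hp).1 h
  exact ⟨j, hj⟩

theorem isSolvable_zpowers {G : Type*} [Group G] (y : G) : Group.IsSolvable (Subgroup.zpowers y) :=
  Group.isSolvable_of_comm fun a b => IsCyclic.commGroup.mul_comm a b

theorem kazarin {p : ℕ} (hp : p.Prime) (G : Type u) [Group G] [Finite G] :
    ∀ (x : G) (k : ℕ), (Subgroup.centralizer ({x} : Set G)).index = p ^ k → x ∈ H44.solRad G := by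
  have : Fact p.Prime := ⟨hp⟩
  refine H2.card_induction (P := fun G _ _ => ∀ (x : G) (k : ℕ),
    (Subgroup.centralizer ({x} : Set G)).index = p ^ k → x ∈ H44.solRad G) G ?_
  intro G _ _ ih x k hk
  by_cases hR : H44.solRad G = ⊥
  swap
  · obtain ⟨j, hj⟩ := exists_eq_pow_of_dvd hp (hk ▸ H82.index_centralizer_map_dvd
      (QuotientGroup.mk' (H44.solRad G)) (QuotientGroup.mk'_surjective _) x)
    have := ih _ (H2.card_quotient_lt _ hR) _ j hj
    rw [H44.solRad_quotient_solRad, Subgroup.mem_bot] at this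
    exact (QuotientGroup.eq_one_iff x).1 this
  have hsol : ∀ N : Subgroup G, N.Normal → Group.IsSolvable N → N = ⊥ := fun N hN h =>
    le_bot_iff.1 (hR ▸ H44.le_solRad hN h)
  by_contra hx
  have hx1 : orderOf x ≠ 1 := by
    rw [Ne, orderOf_eq_one_iff]; rintro rfl; exact hx (one_mem _)
  obtain ⟨q, hq, hqx⟩ := Nat.exists_prime_and_dvd hx1
  have : Fact q.Prime := ⟨hq⟩
  obtain ⟨y, hyq, j, hj⟩ : ∃ y : G, orderOf y = q ∧
      ∃ j, (Subgroup.centralizer ({y} : Set G)).index = p ^ j := by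
    refine ⟨x ^ (orderOf x / q), orderOf_pow_orderOf_div (orderOf_pos x).ne' hqx,
      exists_eq_pow_of_dvd (k := k) hp ?_⟩
    rw [← hk]
    refine Subgroup.index_dvd_of_le fun g hg => ?_
    rw [Subgroup.mem_centralizer_singleton_iff] at hg ⊢
    exact ((show Commute g x from hg).pow_right _).eq
  clear hx1 hqx hx hk
  have hy1 : y ≠ 1 := by rintro rfl; exact hq.one_lt.ne (orderOf_one.symm.trans hyq)
  have hyH : y ∈ Subgroup.normalClosure ({y} : Set G) := Subgroup.subset_normalClosure rfl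
  obtain ⟨M, hMn, hM0, hMH, hmin⟩ := H2.exists_minimal_normal_le
    (Subgroup.normalClosure ({y} : Set G)) inferInstance fun h => hy1 (Subgroup.mem_bot.1 (h ▸ hyH))
  have hMs : ¬ Group.IsSolvable M := fun h => hM0 (hsol M hMn h)
  have hyC : y ∉ Subgroup.centralizer (M : Set G) := by
    intro h
    have h1 : M ≤ Subgroup.centralizer (M : Set G) :=
      hMH.trans (Subgroup.normalClosure_le_normal (Set.singleton_subset_iff.2 h))
    exact hMs (Group.isSolvable_of_comm fun a b => Subtype.ext (h1 b.2 a a.2))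
  obtain ⟨i, hi⟩ := exists_eq_pow_of_dvd hp
    (hj ▸ H3.relIndex_dvd_index_of_normal_right (Subgroup.centralizer ({y} : Set G)) M)
  have hK : M ⊔ Subgroup.zpowers y = ⊤ := by
    by_contra hK
    set K := M ⊔ Subgroup.zpowers y with hKdef
    have hyK : y ∈ K := Subgroup.mem_sup_right (Subgroup.mem_zpowers y)
    have h1 : (Subgroup.centralizer ({⟨y, hyK⟩} : Set K)).index = p ^ i := by
      rw [H82.centralizer_subgroupOf, ← hi, ← H82.ncard_conj_under]
      refine (H82.ncard_conj_under K y).symm.trans ?_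
      congr 1
      ext z
      constructor
      · rintro ⟨g, hg, rfl⟩
        rw [hKdef, ← SetLike.mem_coe, Subgroup.normal_mul] at hg
        obtain ⟨m, hm, _, ⟨l, rfl⟩, rfl⟩ := hg
        refine ⟨m, hm, ?_⟩
        simp only
        rw [← cj_def, ← cj_def, cj_mul, cj_of_commute ((Commute.refl y).zpow_left l)]
      · rintro ⟨g, hg, rfl⟩
        exact ⟨g, Subgroup.mem_sup_left hg, rfl⟩
    have h2 := ih K (H2.card_lt_of_ne_top hK) _ i h1
    have h3 : (H44.solRad K).map K.subtype ⊓ M ≤ ⊥ :=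
      (H44.solRadOf_inf_le_solRadOf le_sup_left).trans
        (hR ▸ H44.solRadOf_le_of_subnormal hMn.isSubnormal)
    apply hyC
    intro m hm
    rw [← commutatorElement_eq_one_iff_mul_comm, ← Subgroup.mem_bot]
    refine h3 ⟨?_, ?_⟩
    · exact ⟨_, (H44.solRad K).mul_mem (Subgroup.Normal.conj_mem inferInstance _ h2
        ⟨m, Subgroup.mem_sup_left hm⟩) ((H44.solRad K).inv_mem h2), rfl⟩
    · have := M.mul_mem hm (hMn.conj_mem _ (M.inv_mem hm) y)
      show m * y * m⁻¹ * y⁻¹ ∈ M
      simpa only [mul_assoc] using this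
  have hdec : ∀ g : G, ∃ m ∈ M, ∃ l : ℤ, g = m * y ^ l := by
    intro g
    have hg : g ∈ M ⊔ Subgroup.zpowers y := hK ▸ Subgroup.mem_top g
    rw [← SetLike.mem_coe, Subgroup.normal_mul] at hg
    obtain ⟨m, hm, _, ⟨l, rfl⟩, rfl⟩ := hg
    exact ⟨m, hm, l, rfl⟩
  have hgen : Subgroup.zpowers (y : G ⧸ M) = ⊤ := by
    rw [eq_top_iff]
    intro g _
    obtain ⟨g, rfl⟩ := QuotientGroup.mk_surjective g
    obtain ⟨m, hm, l, rfl⟩ := hdec g
    exact ⟨l, by simp [(QuotientGroup.eq_one_iff m).2 hm]⟩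
  have hmin' : ∀ N : Subgroup G, N.Normal → N ≠ ⊥ → M ≤ N := by
    intro N hN hN0
    rcases hmin (N ⊓ M) inferInstance inf_le_right with h | h
    · exfalso
      apply hN0
      refine hsol N hN ?_
      have := isSolvable_zpowers (y : G ⧸ M)
      have : Group.IsSolvable (G ⧸ M) := Group.isSolvable_of_surjective
        (f := (Subgroup.zpowers (y : G ⧸ M)).subtype)
        fun g => ⟨⟨g, hgen ▸ Subgroup.mem_top g⟩, rfl⟩
      refine Group.isSolvable_of_isSolvable_injective (f := (QuotientGroup.mk' M).comp N.subtype) ?_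
      rw [injective_iff_map_eq_one]
      intro a ha
      have h1 : (a : G) ∈ N ⊓ M := ⟨a.2, (QuotientGroup.eq_one_iff _).1 ha⟩
      rw [h] at h1
      exact Subtype.ext h1
    · exact h ▸ inf_le_left
  have hfin : ∀ P : Subgroup G, IsPGroup p P → y ∈ Subgroup.normalizer (P : Set G) →
      (∀ g : G, ∃ s ∈ P, cj s y = cj g y) → False := by
    intro P hP hyP h
    have h1 : Subgroup.normalClosure ({y} : Set G) ≤ P ⊔ Subgroup.zpowers y := by
      rw [Subgroup.normalClosure, Subgroup.closure_le]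
      intro z hz
      obtain ⟨w, hw, hz'⟩ := Group.mem_conjugatesOfSet_iff.1 hz
      rw [Set.mem_singleton_iff.1 hw] at hz'
      obtain ⟨g, rfl⟩ := isConj_iff.1 hz'
      obtain ⟨s, hs, h2⟩ := h g
      rw [← cj_def, ← h2]
      exact cj_mem (Subgroup.mem_sup_left hs) (Subgroup.mem_sup_right (Subgroup.mem_zpowers _))
    have := hP.isNilpotent
    have h2 := H44.isSolvable_sup_of_le_normalizer ((Subgroup.zpowers_le).2 hyP)
      (inferInstance : Group.IsSolvable P) (isSolvable_zpowers y)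
    exact hMs (Group.isSolvable_of_isSolvable_injective
      (Subgroup.inclusion_injective (hMH.trans h1)))
  by_cases hpq : p = q
  · subst hpq
    have hA : IsPGroup p (Subgroup.zpowers y) :=
      IsPGroup.of_card (n := 1) (by rw [Nat.card_zpowers, hyq, pow_one])
    obtain ⟨S, hS⟩ := (hA.comap_subtype (K := ⊤)).exists_le_sylow
    exact hfin _ (S.isPGroup'.map (⊤ : Subgroup G).subtype)
      (Subgroup.le_normalizer ⟨⟨y, trivial⟩, hS (Subgroup.mem_zpowers y), rfl⟩)
      fun g => exists_cj_sylow ⊤ S y (by rw [Subgroup.relIndex_top_right, hj]) trivial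
  by_cases hqM : q ∣ Nat.card M
  swap
  · have hA : IsPGroup q (Subgroup.zpowers y) :=
      IsPGroup.of_card (n := 1) (by rw [Nat.card_zpowers, hyq, pow_one])
    obtain ⟨S, hS⟩ := H46.exists_invariant_sylow hA hqM (by simp [Subgroup.normalizer_eq_top]) p
    refine hfin _ (S.isPGroup'.map M.subtype) (hS (Subgroup.mem_zpowers y)) fun g => ?_
    obtain ⟨m, hm, l, rfl⟩ := hdec g
    rw [cj_mul, cj_of_commute ((Commute.refl y).zpow_left l)]
    exact exists_cj_sylow M S y hi hm
  by_cases hyM : y ∈ M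
  · have hM : M = ⊤ := by rw [← hK, left_eq_sup, Subgroup.zpowers_le]; exact hyM
    have : Nontrivial G := nontrivial_of_ne y 1 hy1
    have : IsSimpleGroup G := ⟨fun N hN => hM ▸ hmin N hN (hM ▸ le_top)⟩
    have h1 := H5.prime_card_of_simple_of_index_eq_prime_pow hp hy1 hj
    have : Fact (Nat.card G).Prime := ⟨h1⟩
    have : IsCyclic G := isCyclic_of_prime_card rfl
    exact hMs (Group.isSolvable_of_comm fun a b => Subtype.ext (IsCyclic.commGroup.mul_comm _ _))
  obtain ⟨u, hu⟩ := exists_prime_orderOf_dvd_card' q hqM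
  refine kazarin_char hp hq hpq M ?_ hmin' (y := y)
    (fun h => hyC (Subgroup.center_le_centralizer _ h)) hj u.2 (by rw [Subgroup.orderOf_coe, hu])
  rw [Subgroup.index, ← Subgroup.card_top, ← hgen, Nat.card_zpowers]
  refine orderOf_eq_prime ?_ fun h => hyM ((QuotientGroup.eq_one_iff y).1 h)
  rw [← QuotientGroup.mk_pow, ← hyq, pow_orderOf_eq_one, QuotientGroup.mk_one]

end Cfsg.Agent.H95
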